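import Mathlib

/-!
Fixed points of finite groups of "tree isometries" of a free group (word-norm only).
Library file of helper42 for helper67's S5286 ("LSF") project.
-/

set_option autoImplicit false

namespace Cfsg.Agent.Lib.Helper42.LSF

open FreeGroup

variable {α : Type*} [DecidableEq α]

/-- First letter of a word of norm at least two, with the midpoint inequality. -/
theorem first_step (w : FreeGroup α) (hw : 2 ≤ norm w) :
    ∃ y : FreeGroup α, norm y = 1 ∧ norm (y⁻¹ * w) + 1 = norm w ∧
      ∀ t : FreeGroup α, norm (y⁻¹ * t) + 1 ≤ max (norm t) (norm (w⁻¹ * t)) := by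
  obtain ⟨l, rest, hW⟩ : ∃ l rest, toWord w = l :: rest := by
    cases hh : toWord w with
    | nil => simp [FreeGroup.norm, hh] at hw
    | cons l rest => exact ⟨l, rest, rfl⟩
  have hlen : norm w = rest.length + 1 := by simp [FreeGroup.norm, hW]
  have hred : IsReduced (l :: rest) := by rw [← hW]; exact isReduced_toWord
  have hrest : IsReduced rest := hred.infix ⟨[l], [], by simp⟩
  have hrest1 : 1 ≤ rest.length := by omega
  have hwy : w = mk [l] * mk rest := by
    rw [← mk_toWord (x := w), hW]; rfl
  have hys : (mk [l])⁻¹ * w = mk rest := by rw [hwy, inv_mul_cancel_left]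
  have hnr : norm (mk rest) = rest.length := by
    simp [FreeGroup.norm, toWord_mk, hrest.reduce_eq]
  refine ⟨mk [l], ?_, ?_, ?_⟩
  · simp [FreeGroup.norm, toWord_mk]
  · rw [hys, hnr, hlen]
  · intro t
    set t' := (mk [l])⁻¹ * t with ht'
    have ht : t = mk [l] * t' := by rw [ht', mul_inv_cancel_left]
    have hwt : w⁻¹ * t = (t'⁻¹ * mk rest)⁻¹ := by
      rw [ht, hwy]; group
    by_cases h : IsReduced (l :: toWord t')
    · have h1 : norm t = norm t' + 1 := by
        rw [ht]
        have : toWord (mk [l] * t') = l :: toWord t' := by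
          rw [toWord_mul, toWord_mk, reduce_singleton]
          exact h.reduce_eq
        simp [FreeGroup.norm, this]
      exact le_trans (le_of_eq h1.symm) (le_max_left _ _)
    · have h2 : norm (w⁻¹ * t) = norm t' + rest.length := by
        rw [hwt, norm_inv_eq]
        cases hT : toWord t' with
        | nil => rw [hT] at h; exact absurd IsReduced.singleton h
        | cons h0 T'' =>
          have hT' : IsReduced (h0 :: T'') := by rw [← hT]; exact isReduced_toWord
          rw [hT, isReduced_cons_cons] at h
          have hl : (h0.1, !h0.2) = l := by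
            have : ¬ (l.1 = h0.1 → l.2 = h0.2) := fun hc => h ⟨hc, hT'⟩
            have h3 : l.1 = h0.1 ∧ l.2 ≠ h0.2 := by
              constructor
              · by_contra hne; exact this (fun e => absurd e hne)
              · intro e; exact this (fun _ => e)
            obtain ⟨l1, l2⟩ := l
            obtain ⟨a1, a2⟩ := h0
            simp only at h3
            obtain ⟨rfl, h4⟩ := h3
            cases l2 <;> cases a2 <;> first | rfl | exact absurd rfl h4
          have hinv : toWord t'⁻¹ = invRev T'' ++ [l] := by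
            rw [toWord_inv, hT, invRev_cons]
            simp [invRev, hl]
          have hr1 : IsReduced (invRev T'' ++ [l]) := by
            rw [← hinv]; exact isReduced_toWord
          have hr : IsReduced (invRev T'' ++ [l] ++ rest) :=
            hr1.append_overlap hred (by simp)
          have : toWord (t'⁻¹ * mk rest) = invRev T'' ++ [l] ++ rest := by
            rw [toWord_mul, hinv, toWord_mk, hrest.reduce_eq]
            exact hr.reduce_eq
          have e1 : FreeGroup.norm (t'⁻¹ * mk rest) = T''.length + 1 + rest.length := by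
            simp only [FreeGroup.norm, this, List.length_append, invRev_length, List.length_cons,
              List.length_nil]
          have e2 : FreeGroup.norm t' = T''.length + 1 := by
            simp only [FreeGroup.norm, hT, List.length_cons]
          omega
      exact le_trans (by omega) (le_max_right _ _)

/-- No triangles: a product of two elements of norm one does not have norm one. -/
theorem norm_mul_ne_one (x y : FreeGroup α) (hx : norm x = 1) (hy : norm y = 1) :
    norm (x * y) ≠ 1 := by
  obtain ⟨l, hl⟩ : ∃ l, toWord x = [l] := by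
    cases hh : toWord x with
    | nil => simp [FreeGroup.norm, hh] at hx
    | cons l rest =>
      cases rest with
      | nil => exact ⟨l, rfl⟩
      | cons _ _ => simp [FreeGroup.norm, hh] at hx
  obtain ⟨l', hl'⟩ : ∃ l, toWord y = [l] := by
    cases hh : toWord y with
    | nil => simp [FreeGroup.norm, hh] at hy
    | cons l rest =>
      cases rest with
      | nil => exact ⟨l, rfl⟩
      | cons _ _ => simp [FreeGroup.norm, hh] at hy
  have : toWord (x * y) = reduce [l, l'] := by
    rw [toWord_mul, hl, hl']; rfl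
  unfold FreeGroup.norm
  rw [this]
  simp only [reduce.cons, reduce_nil]
  split_ifs <;> simp

/-- A finite group of "tree isometries without inversion" of a free group (vertices of its
Cayley tree, distance `norm (u⁻¹ * v)`) fixes a point of every nonempty invariant geodesically
convex set of vertices. -/
theorem exists_fixed_point {K : Type*} [Group K] [Finite K]
    (act : K → FreeGroup α → FreeGroup α)
    (hmul : ∀ k k' u, act (k * k') u = act k (act k' u))
    (hone : ∀ u, act 1 u = u)
    (hiso : ∀ k u v, FreeGroup.norm ((act k u)⁻¹ * act k v) = FreeGroup.norm (u⁻¹ * v))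
    (hninv : ∀ k u, FreeGroup.norm (u⁻¹ * act k u) = 1 → act k (act k u) ≠ u)
    (V : Set (FreeGroup α)) (hne : V.Nonempty) (hinv : ∀ k, ∀ v ∈ V, act k v ∈ V)
    (hconv : ∀ a ∈ V, ∀ b ∈ V, ∀ m, FreeGroup.norm (a⁻¹ * m) = 1 →
      FreeGroup.norm (m⁻¹ * b) + 1 = FreeGroup.norm (a⁻¹ * b) → m ∈ V) :
    ∃ v ∈ V, ∀ k, act k v = v := by
  classical
  have : Fintype K := Fintype.ofFinite K
  obtain ⟨v₀, hv₀⟩ := hne
  let r : FreeGroup α → ℕ := fun v =>
    Finset.univ.sup (fun k : K => FreeGroup.norm (v⁻¹ * act k v₀))
  have hr_term : ∀ (v : FreeGroup α) (k : K), FreeGroup.norm (v⁻¹ * act k v₀) ≤ r v :=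
    fun v k => Finset.le_sup (f := fun k : K => FreeGroup.norm (v⁻¹ * act k v₀))
      (Finset.mem_univ k)
  have hr_le : ∀ k v, r (act k v) ≤ r v := by
    intro k v
    apply Finset.sup_le
    intro k' _
    have e : act k' v₀ = act k (act (k⁻¹ * k') v₀) := by rw [← hmul, mul_inv_cancel_left]
    rw [e, hiso]
    exact hr_term v _
  have hr_eq : ∀ k v, r (act k v) = r v := by
    intro k v
    apply le_antisymm (hr_le k v)
    have := hr_le k⁻¹ (act k v)
    rwa [← hmul, inv_mul_cancel, hone] at this
  have hex : ∃ n, ∃ v ∈ V, r v = n := ⟨r v₀, v₀, hv₀, rfl⟩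
  obtain ⟨v, hvV, hvn⟩ := Nat.find_spec hex
  have hvmin : ∀ u ∈ V, r v ≤ r u := fun u hu => by
    rw [hvn]; exact Nat.find_min' hex ⟨u, hu, rfl⟩
  have hclose : ∀ a ∈ V, ∀ b ∈ V, r a = r v → r b = r v → FreeGroup.norm (a⁻¹ * b) ≤ 1 := by
    intro a ha b hb hra hrb
    by_contra hcon
    rw [not_le] at hcon
    obtain ⟨y, hy1, hy2, hy3⟩ := first_step (a⁻¹ * b) (by omega)
    have hm : a * y ∈ V := by
      refine hconv a ha b hb (a * y) ?_ ?_
      · rw [inv_mul_cancel_left]; exact hy1
      · rw [mul_inv_rev, mul_assoc]; exact hy2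
    have hterm : ∀ k : K, FreeGroup.norm ((a * y)⁻¹ * act k v₀) + 1 ≤ r v := by
      intro k
      have h3 := hy3 (a⁻¹ * act k v₀)
      have e1 : y⁻¹ * (a⁻¹ * act k v₀) = (a * y)⁻¹ * act k v₀ := by group
      have e2 : (a⁻¹ * b)⁻¹ * (a⁻¹ * act k v₀) = b⁻¹ * act k v₀ := by group
      rw [e1, e2] at h3
      refine le_trans h3 (max_le ?_ ?_)
      · rw [← hra]; exact hr_term a k
      · rw [← hrb]; exact hr_term b k
    have h1 := hterm 1
    have h2 : r (a * y) ≤ r v - 1 :=
      Finset.sup_le (fun k _ => by have := hterm k; omega)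
    have := hvmin (a * y) hm
    omega
  refine ⟨v, hvV, fun k => ?_⟩
  have hb : act k v ∈ V := hinv k v hvV
  have hrb : r (act k v) = r v := hr_eq k v
  have h1 := hclose v hvV (act k v) hb rfl hrb
  by_contra hne'
  have h1' : FreeGroup.norm (v⁻¹ * act k v) = 1 := by
    have : FreeGroup.norm (v⁻¹ * act k v) ≠ 0 := by
      rw [Ne, FreeGroup.norm_eq_zero, inv_mul_eq_one]; exact fun e => hne' e.symm
    omega
  have hb' : act k (act k v) ∈ V := hinv k _ hb
  have hrb' : r (act k (act k v)) = r v := by rw [hr_eq, hr_eq]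
  have h2 := hclose v hvV _ hb' rfl hrb'
  have h3 : FreeGroup.norm ((act k v)⁻¹ * act k (act k v)) = 1 := by rw [hiso]; exact h1'
  have h4 : FreeGroup.norm (v⁻¹ * act k (act k v)) ≠ 1 := by
    have := norm_mul_ne_one _ _ h1' h3
    rwa [mul_assoc, mul_inv_cancel_left] at this
  have h5 : FreeGroup.norm (v⁻¹ * act k (act k v)) = 0 := by omega
  rw [FreeGroup.norm_eq_zero, inv_mul_eq_one] at h5
  exact hninv k v h1' h5.symm

/-- `FreeGroup.map` does not increase the norm. -/
theorem norm_map_le' {β : Type*} [DecidableEq β] (f : α → β) (u : FreeGroup α) :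
    FreeGroup.norm (FreeGroup.map f u) ≤ FreeGroup.norm u := by
  calc FreeGroup.norm (FreeGroup.map f u)
      = FreeGroup.norm (FreeGroup.map f (mk (toWord u))) := by rw [mk_toWord]
    _ = FreeGroup.norm (mk ((toWord u).map fun x => (f x.1, x.2))) := by rw [map.mk]
    _ ≤ ((toWord u).map fun x => (f x.1, x.2)).length := norm_mk_le
    _ = FreeGroup.norm u := by simp [FreeGroup.norm]

/-- A relabelling of the basis preserves the norm. -/
theorem norm_map_equiv {β : Type*} [DecidableEq β] (e : α ≃ β) (u : FreeGroup α) :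
    FreeGroup.norm (FreeGroup.map e u) = FreeGroup.norm u := by
  apply le_antisymm (norm_map_le' e u)
  have := norm_map_le' e.symm (FreeGroup.map e u)
  rwa [map.comp, Equiv.symm_comp_self, map.id] at this

/-- A map induced on the basis never inverts an element of norm one. -/
theorem map_ne_inv_of_norm_one (e : α → α) (w : FreeGroup α) (hw : FreeGroup.norm w = 1) :
    FreeGroup.map e w ≠ w⁻¹ := by
  obtain ⟨l, hl⟩ : ∃ l, toWord w = [l] := by
    cases hh : toWord w with
    | nil => simp [FreeGroup.norm, hh] at hw
    | cons l rest =>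
      cases rest with
      | nil => exact ⟨l, rfl⟩
      | cons _ _ => simp [FreeGroup.norm, hh] at hw
  have hw' : w = mk [l] := by rw [← mk_toWord (x := w), hl]
  intro h
  rw [hw', map.mk, inv_mk] at h
  have h2 := congrArg toWord h
  rw [toWord_mk, toWord_mk] at h2
  simp only [List.map_cons, List.map_nil, invRev, List.reverse_cons, List.reverse_nil,
    List.nil_append, reduce_singleton, List.cons.injEq, Prod.mk.injEq, and_true] at h2
  obtain ⟨_, h3⟩ := h2
  cases hb : l.2 <;> simp [hb] at h3

/-- Fixed point for a finite group acting by affine maps `u ↦ c k * map (σ k) u`. -/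
theorem exists_fixed_point_affine {K : Type*} [Group K] [Finite K]
    (act : K → FreeGroup α → FreeGroup α) (c : K → FreeGroup α) (σ : K → α ≃ α)
    (hact : ∀ k u, act k u = c k * FreeGroup.map (σ k) u)
    (hmul : ∀ k k' u, act (k * k') u = act k (act k' u))
    (hone : ∀ u, act 1 u = u)
    (V : Set (FreeGroup α)) (hne : V.Nonempty) (hinv : ∀ k, ∀ v ∈ V, act k v ∈ V)
    (hconv : ∀ a ∈ V, ∀ b ∈ V, ∀ m, FreeGroup.norm (a⁻¹ * m) = 1 →
      FreeGroup.norm (m⁻¹ * b) + 1 = FreeGroup.norm (a⁻¹ * b) → m ∈ V) :
    ∃ v ∈ V, ∀ k, act k v = v := by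
  refine exists_fixed_point act hmul hone ?_ ?_ V hne hinv hconv
  · intro k u v
    have e : (act k u)⁻¹ * act k v = FreeGroup.map (σ k) (u⁻¹ * v) := by
      rw [hact, hact, _root_.map_mul, _root_.map_inv]; group
    rw [e, norm_map_equiv]
  · intro k u h1 h2
    have e : FreeGroup.map (σ k) (u⁻¹ * act k u) = (u⁻¹ * act k u)⁻¹ := by
      have e1 : FreeGroup.map (σ k) u = (c k)⁻¹ * act k u := by rw [hact]; group
      have e2 : FreeGroup.map (σ k) (act k u) = (c k)⁻¹ * u := by
        conv_rhs => rw [← h2, hact k (act k u)]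
        group
      rw [_root_.map_mul, _root_.map_inv, e1, e2]; group
    exact map_ne_inv_of_norm_one (σ k) _ h1 e

end Cfsg.Agent.Lib.Helper42.LSF
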