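import Mathlib
import Cfsg.Agent.Lib.Helper67.LSF.Defs
import Cfsg.Agent.Lib.Helper42.LSF.Tree

/-!
[TREE] package of helper67's S5286 ("LSF") project, unconditional, from the generic fixed-point
theorem of `Cfsg.Agent.Lib.Helper42.LSF.Tree`.
-/

set_option autoImplicit false

namespace Cfsg.Agent.Lib.Helper42.LSF

open FreeGroup Cfsg.Agent.Lib.Helper67.LSF

universe u

/-- If the norm of a product is the sum of the norms, the reduced words concatenate. -/
theorem isReduced_append_of_norm_add {α : Type*} [DecidableEq α] (y s : FreeGroup α)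
    (h : FreeGroup.norm (y * s) = FreeGroup.norm y + FreeGroup.norm s) :
    IsReduced (toWord y ++ toWord s) := by
  apply IsReduced.of_reduce_eq
  have hsub : List.Sublist (reduce (toWord y ++ toWord s)) (toWord y ++ toWord s) :=
    reduce.red.sublist
  refine hsub.eq_of_length ?_
  have : (toWord (y * s)).length = (toWord y).length + (toWord s).length := h
  rw [toWord_mul] at this
  rw [this, List.length_append]

theorem pkgTree : PkgTree.{u} := by
  intro Q _ X α H _ V h1 hinv hconv
  classical
  have hmap : ∀ (q : Q) (u : FreeGroup X), autX α q u = FreeGroup.map (α q) u := fun q u => rfl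
  obtain ⟨v, hvV, hv⟩ := exists_fixed_point_affine (K := H)
    (fun k u => k.1.left * autX α k.1.right u) (fun k => k.1.left) (fun k => α k.1.right)
    (fun k u => by rw [hmap])
    (fun k k' u => by
      simp only [Subgroup.coe_mul, SemidirectProduct.mul_left, SemidirectProduct.mul_right,
        _root_.map_mul, MulAut.mul_apply, mul_assoc])
    (fun u => by simp)
    V ⟨1, h1⟩ (fun k v hv => hinv k.1 k.2 v hv)
    (fun a ha b hb m hm1 hm2 => by
      have hred := isReduced_append_of_norm_add (a⁻¹ * m) (m⁻¹ * b) (by
        have e : a⁻¹ * m * (m⁻¹ * b) = a⁻¹ * b := by group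
        rw [e, ← hm2, hm1, add_comm])
      have hb' : a * FreeGroup.mk (toWord (a⁻¹ * m) ++ toWord (m⁻¹ * b)) ∈ V := by
        rw [← FreeGroup.mul_mk, mk_toWord, mk_toWord]
        have e : a * (a⁻¹ * m * (m⁻¹ * b)) = b := by group
        rw [e]; exact hb
      have := hconv a ha _ _ hred hb'
      rwa [mk_toWord, mul_inv_cancel_left] at this)
  exact ⟨v, hvV, fun h hh => hv ⟨h, hh⟩⟩

end Cfsg.Agent.Lib.Helper42.LSF
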